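import Mathlib.NumberTheory.Padics.Complex
import Mathlib.LinearAlgebra.Matrix.Charpoly.Basic
import Mathlib.Analysis.Normed.Ring.Ultra
import Mathlib.RingTheory.Nilpotent.Basic
import Mathlib.Data.Nat.Factorization.Basic
import Mathlib.Algebra.Ring.GeomSum
import Mathlib.LinearAlgebra.Matrix.ToLinearEquiv

/-!
# Matrices close to the identity which are almost conjugate to their powers
-/

open Matrix Finset

namespace Groth.Agent.QUnip

variable (p : ℕ) [Fact p.Prime]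

theorem norm_cast (k : ℕ) : ‖(k : PadicAlgCl p)‖ = ‖(k : ℚ_[p])‖ := by
  rw [← map_natCast (algebraMap ℚ_[p] (PadicAlgCl p)), PadicAlgCl.norm_extends]

theorem norm_prime : ‖(p : PadicAlgCl p)‖ = (p : ℝ)⁻¹ := by rw [norm_cast, Padic.norm_p]

theorem norm_coprime {k : ℕ} (h : ¬ p ∣ k) : ‖(k : PadicAlgCl p)‖ = 1 := by
  rw [norm_cast, Padic.norm_natCast_eq_one_iff]
  exact (Nat.Prime.coprime_iff_not_dvd Fact.out).mpr h

theorem norm_le_one_of_sub {α : PadicAlgCl p} (h : ‖α - 1‖ ≤ 1) : ‖α‖ ≤ 1 := by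
  have := IsUltrametricDist.norm_add_le_max (α - 1) 1
  simpa [sub_add_cancel] using this.trans (max_le h (le_of_eq norm_one))

theorem norm_pow_sub_pow {x y : PadicAlgCl p} (hx : ‖x‖ ≤ 1) (hy : ‖y‖ ≤ 1) (m : ℕ) :
    ‖x ^ m - y ^ m‖ ≤ ‖x - y‖ := by
  rw [← geom_sum₂_mul x y m, norm_mul]
  refine mul_le_of_le_one_left (norm_nonneg _)
    (IsUltrametricDist.norm_sum_le_of_forall_le_of_nonneg zero_le_one fun i _ => ?_)
  rw [norm_mul, norm_pow, norm_pow]
  exact mul_le_one₀ (pow_le_one₀ (norm_nonneg _) hx) (by positivity) (pow_le_one₀ (norm_nonneg _) hy)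

theorem norm_pow_sub_one (α : PadicAlgCl p) (h : ‖α - 1‖ ≤ ((p : ℝ)⁻¹) ^ 2) (t : ℕ) :
    ‖α ^ t - 1‖ = ‖(t : PadicAlgCl p)‖ * ‖α - 1‖ := by
  have hp : (1 : ℝ) < p := by exact_mod_cast (Fact.out : p.Prime).one_lt
  have hlt : ((p : ℝ)⁻¹) ^ 2 < (p : ℝ)⁻¹ := pow_lt_self_of_lt_one₀ (by positivity) (inv_lt_one_of_one_lt₀ hp) one_lt_two
  induction t using Nat.recOnMul generalizing α with
  | zero => simp
  | one => simp
  | prime q hq =>
    have hα : ‖α‖ ≤ 1 := norm_le_one_of_sub p (h.trans (pow_le_one₀ (by positivity) (inv_lt_one_of_one_lt₀ hp).le))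
    have hd : ‖∑ i ∈ range q, α ^ i - (q : PadicAlgCl p)‖ ≤ ‖α - 1‖ := by
      have e : ∑ i ∈ range q, α ^ i - (q : PadicAlgCl p) = ∑ i ∈ range q, (α ^ i - 1 ^ i) := by
        simp [sum_sub_distrib]
      rw [e]
      exact IsUltrametricDist.norm_sum_le_of_forall_le_of_nonneg (norm_nonneg _)
        fun i _ => norm_pow_sub_pow p hα (le_of_eq norm_one) i
    have hq' : ‖α - 1‖ < ‖(q : PadicAlgCl p)‖ := by
      by_cases hpq : p = q
      · subst hpq; rw [norm_prime]; exact h.trans_lt hlt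
      · rw [norm_coprime p fun hd => hpq ((Nat.prime_dvd_prime_iff_eq Fact.out hq).mp hd)]
        exact (h.trans_lt hlt).trans (inv_lt_one_of_one_lt₀ hp)
    rw [← geom_sum_mul, norm_mul]
    congr 1
    have e := IsUltrametricDist.norm_add_eq_max_of_norm_ne_norm
      (x := ∑ i ∈ range q, α ^ i - (q : PadicAlgCl p)) (y := (q : PadicAlgCl p)) (hd.trans_lt hq').ne
    rw [sub_add_cancel, max_eq_right (hd.trans_lt hq').le] at e
    exact e
  | mul a b iha ihb =>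
    have h1 := iha α h
    have h2 : ‖α ^ a - 1‖ ≤ ((p : ℝ)⁻¹) ^ 2 := by
      rw [h1]
      exact (mul_le_of_le_one_left (norm_nonneg _) (IsUltrametricDist.norm_natCast_le_one _ a)).trans h
    rw [pow_mul, ihb _ h2, h1, Nat.cast_mul, norm_mul]
    ring

variable {n : ℕ}

/-- All entries have norm at most `r`. -/
def Bd {L : Type*} [Norm L] (r : ℝ) (M : Matrix (Fin n) (Fin n) L) : Prop := ∀ a b, ‖M a b‖ ≤ r

section
variable {L : Type*} [NormedField L] [IsUltrametricDist L]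

theorem Bd.add {r : ℝ} {M N : Matrix (Fin n) (Fin n) L} (hM : Bd r M) (hN : Bd r N) : Bd r (M + N) :=
  fun a b => (IsUltrametricDist.norm_add_le_max _ _).trans (max_le (hM a b) (hN a b))

theorem Bd.mul {r s : ℝ} (hr : 0 ≤ r) (hs : 0 ≤ s) {M N : Matrix (Fin n) (Fin n) L} (hM : Bd r M) (hN : Bd s N) :
    Bd (r * s) (M * N) := fun a b => by
  rw [Matrix.mul_apply]
  refine IsUltrametricDist.norm_sum_le_of_forall_le_of_nonneg (mul_nonneg hr hs) fun c _ => ?_
  rw [norm_mul]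
  exact mul_le_mul (hM a c) (hN c b) (norm_nonneg _) hr

theorem Bd.mono {r s : ℝ} {M : Matrix (Fin n) (Fin n) L} (hM : Bd r M) (h : r ≤ s) : Bd s M :=
  fun a b => (hM a b).trans h

theorem bd_one : Bd 1 (1 : Matrix (Fin n) (Fin n) L) := fun a b => by
  rcases eq_or_ne a b with rfl | h <;> simp [*]

theorem Bd.pow {M : Matrix (Fin n) (Fin n) L} (hM : Bd 1 M) : ∀ m, Bd 1 (M ^ m)
  | 0 => by simpa using bd_one
  | m + 1 => by simpa [pow_succ] using (Bd.pow hM m).mul zero_le_one zero_le_one hM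

theorem bd_one_of_sub {r : ℝ} (hr : r ≤ 1) {A : Matrix (Fin n) (Fin n) L} (h : Bd r (A - 1)) : Bd 1 A := by
  simpa using (h.mono hr).add bd_one

/-- For `A ≡ 1` and `d` a unit, `A ^ d - 1` has the same size as `A - 1`. -/
theorem Bd.of_pow {r J : ℝ} (hr : r < 1) (hJ : 0 ≤ J) {A : Matrix (Fin n) (Fin n) L} (hA : Bd r (A - 1))
    {d : ℕ} (hd : ‖(d : L)‖ = 1) (h : Bd J (A ^ d - 1)) : Bd J (A - 1) := by
  classical
  obtain ⟨s, hs0, hs, hsmax⟩ : ∃ s : ℝ, 0 ≤ s ∧ Bd s (A - 1) ∧ (s = 0 ∨ ∃ a b, ‖(A - 1) a b‖ = s) := by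
    rcases isEmpty_or_nonempty (Fin n) with hn | hn
    · exact ⟨0, le_rfl, fun a => hn.elim a, Or.inl rfl⟩
    · obtain ⟨⟨a, b⟩, -, hmax⟩ := Finset.exists_max_image univ (fun x : Fin n × Fin n => ‖(A - 1) x.1 x.2‖) univ_nonempty
      exact ⟨_, norm_nonneg _, fun a' b' => hmax (a', b') (mem_univ _), Or.inr ⟨a, b, rfl⟩⟩
  rcases hsmax with rfl | ⟨a, b, hab⟩
  · exact hs.mono hJ
  have hsr : s ≤ r := hab ▸ hA a b
  have hA1 : Bd 1 A := bd_one_of_sub (hsr.trans hr.le) hs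
  have key : ∀ e : ℕ, Bd (s * s) (A ^ e - 1 - (e : L) • (A - 1)) := by
    intro e
    induction e with
    | zero => intro a b; simp [mul_self_nonneg]
    | succ e ih =>
      have h1 : Bd (s * s) ((A ^ e - 1 - (e : L) • (A - 1)) * A) := by
        simpa using ih.mul (mul_self_nonneg s) zero_le_one hA1
      have h2 : Bd (s * s) (((e : L) • (A - 1)) * (A - 1)) := by
        refine Bd.mul hs0 hs0 (fun a b => ?_) hs
        rw [Matrix.smul_apply, norm_smul]
        exact (mul_le_of_le_one_left (norm_nonneg _) (IsUltrametricDist.norm_natCast_le_one _ e)).trans (hs a b)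
      have e' : A ^ (e + 1) - 1 - ((e + 1 : ℕ) : L) • (A - 1) =
          (A ^ e - 1 - (e : L) • (A - 1)) * A + ((e : L) • (A - 1)) * (A - 1) := by
        simp only [Nat.cast_add, Nat.cast_one, add_smul, one_smul, pow_succ, sub_mul, mul_sub, smul_mul_assoc,
          one_mul, mul_one, smul_sub]
        abel
      rw [e']
      exact h1.add h2
  intro a' b'
  refine (hs a' b').trans ?_
  by_contra hlt
  push_neg at hlt
  have hs1 : s * s < s := by nlinarith
  have h3 : ‖(d : L) * (A - 1) a b‖ ≤ max J (s * s) := by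
    have := IsUltrametricDist.norm_add_le_max ((A ^ d - 1) a b) (-((A ^ d - 1 - (d : L) • (A - 1)) a b))
    rw [norm_neg] at this
    refine le_trans (le_of_eq ?_) (this.trans (max_le_max (h a b) (key d a b)))
    congr 1
    simp only [Matrix.sub_apply, Matrix.smul_apply, smul_eq_mul]
    ring
  rw [norm_mul, hd, one_mul, hab] at h3
  exact absurd (h3.trans_lt (max_lt hlt hs1)) (lt_irrefl _)

theorem norm_prod_sub_prod {ι : Type*} (s : Finset ι) {f g : ι → L} {δ : ℝ} (hδ : 0 ≤ δ)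
    (hf : ∀ i, ‖f i‖ ≤ 1) (hg : ∀ i, ‖g i‖ ≤ 1) (h : ∀ i, ‖f i - g i‖ ≤ δ) :
    ‖∏ i ∈ s, f i - ∏ i ∈ s, g i‖ ≤ δ ∧ ‖∏ i ∈ s, g i‖ ≤ 1 := by
  classical
  induction s using Finset.induction with
  | empty => simp [hδ]
  | insert i s hi ih =>
    rw [prod_insert hi, prod_insert hi]
    refine ⟨?_, by rw [norm_mul]; exact mul_le_one₀ (hg i) (norm_nonneg _) ih.2⟩
    have e : f i * ∏ x ∈ s, f x - g i * ∏ x ∈ s, g x =
        f i * (∏ x ∈ s, f x - ∏ x ∈ s, g x) + (f i - g i) * ∏ x ∈ s, g x := by ring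
    rw [e]
    refine (IsUltrametricDist.norm_add_le_max _ _).trans (max_le ?_ ?_) <;> rw [norm_mul]
    · exact (mul_le_of_le_one_left (norm_nonneg _) (hf i)).trans ih.1
    · exact (mul_le_of_le_one_right (norm_nonneg _) ih.2).trans (h i)

theorem norm_det_sub_det {δ : ℝ} (hδ : 0 ≤ δ) {M N : Matrix (Fin n) (Fin n) L} (hM : Bd 1 M) (hN : Bd 1 N)
    (h : Bd δ (M - N)) : ‖M.det - N.det‖ ≤ δ := by
  rw [Matrix.det_apply', Matrix.det_apply', ← sum_sub_distrib]
  refine IsUltrametricDist.norm_sum_le_of_forall_le_of_nonneg hδ fun σ _ => ?_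
  rw [← mul_sub, norm_mul]
  refine (mul_le_of_le_one_left (norm_nonneg _) ?_).trans
    (norm_prod_sub_prod univ hδ (fun i => hM _ _) (fun i => hN _ _) fun i => h _ _).1
  rcases Int.units_eq_one_or (Equiv.Perm.sign σ) with h1 | h1 <;> simp [h1]

theorem eigen_sub_one {r : ℝ} (hr : 0 ≤ r) {A : Matrix (Fin n) (Fin n) L} (hA : Bd r (A - 1)) {α : L}
    {v : Fin n → L} (hv : v ≠ 0) (hAv : A *ᵥ v = α • v) : ‖α - 1‖ ≤ r := by
  classical
  obtain ⟨a0, ha0⟩ := Function.ne_iff.mp hv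
  obtain ⟨a, -, hmax⟩ := Finset.exists_max_image univ (fun i => ‖v i‖) ⟨a0, mem_univ _⟩
  have hpos : 0 < ‖v a‖ := (norm_pos_iff.mpr ha0).trans_le (hmax a0 (mem_univ _))
  have e : ((A - 1) *ᵥ v) a = (α - 1) * v a := by
    rw [Matrix.sub_mulVec, Matrix.one_mulVec, hAv]
    simp [sub_mul]
  have h1 : ‖((A - 1) *ᵥ v) a‖ ≤ r * ‖v a‖ := by
    rw [Matrix.mulVec, dotProduct]
    refine IsUltrametricDist.norm_sum_le_of_forall_le_of_nonneg (by positivity) fun c _ => ?_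
    rw [norm_mul]
    exact mul_le_mul (hA a c) (hmax c (mem_univ _)) (norm_nonneg _) hr
  rw [e, norm_mul] at h1
  exact le_of_mul_le_mul_right h1 hpos

theorem exists_eigenvector {A : Matrix (Fin n) (Fin n) L} {α : L} (hα : A.charpoly.IsRoot α) :
    ∃ v ≠ 0, A *ᵥ v = α • v := by
  rw [Polynomial.IsRoot, Matrix.eval_charpoly] at hα
  obtain ⟨v, hv, hv'⟩ := Matrix.exists_mulVec_eq_zero_iff.mpr hα
  refine ⟨v, hv, ?_⟩
  rw [Matrix.sub_mulVec, sub_eq_zero, Matrix.scalar_apply] at hv'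
  rw [← hv']
  ext i
  simp [Matrix.mulVec_diagonal]

theorem det_scalar_sub_pow {A : Matrix (Fin n) (Fin n) L} {α : L} {v : Fin n → L} (hv : v ≠ 0)
    (hAv : A *ᵥ v = α • v) (m : ℕ) : (Matrix.scalar (Fin n) (α ^ m) - A ^ m).det = 0 := by
  refine Matrix.exists_mulVec_eq_zero_iff.mp ⟨v, hv, ?_⟩
  have : ∀ k, (A ^ k) *ᵥ v = α ^ k • v := by
    intro k
    induction k with
    | zero => simp
    | succ k ih => rw [pow_succ, ← Matrix.mulVec_mulVec, hAv, Matrix.mulVec_smul, ih, smul_smul, pow_succ']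
  rw [Matrix.sub_mulVec, this, sub_eq_zero, Matrix.scalar_apply]
  ext i
  simp [Matrix.mulVec_diagonal]

end

/-- The key criterion. -/
theorem isNilpotent_sub_one (A : Matrix (Fin n) (Fin n) ℚ_[p])
    (hA : Bd (((p : ℝ)⁻¹) ^ 2) (A - 1)) (c : ℕ)
    (h : ∀ J : ℕ, ∃ (m : ℕ) (B : GL (Fin n) ℚ_[p]), 1 ≤ m ∧ p ^ 2 ∣ m - 1 ∧ ¬ p ^ c ∣ m - 1 ∧
      Bd (((p : ℝ)⁻¹) ^ J) ((B : Matrix (Fin n) (Fin n) ℚ_[p]) * A * (↑B⁻¹ : Matrix (Fin n) (Fin n) ℚ_[p]) - A ^ m)) :
    IsNilpotent (A - 1) := by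
  classical
  let L := PadicAlgCl p
  let φ := algebraMap ℚ_[p] L
  let A' : Matrix (Fin n) (Fin n) L := φ.mapMatrix A
  set q : ℝ := (p : ℝ)⁻¹ with hq
  have hp : (1 : ℝ) < p := by exact_mod_cast (Fact.out : p.Prime).one_lt
  have hq0 : 0 < q := by positivity
  have hq1 : q < 1 := inv_lt_one_of_one_lt₀ hp
  have hq21 : q ^ 2 ≤ 1 := pow_le_one₀ hq0.le hq1.le
  have hbd : ∀ {r : ℝ} {M : Matrix (Fin n) (Fin n) ℚ_[p]}, Bd r M → Bd r (φ.mapMatrix M) :=
    fun hM a b => (PadicAlgCl.norm_extends p _).le.trans (hM a b)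
  have hA' : Bd (q ^ 2) (A' - 1) := by
    rw [show A' - 1 = φ.mapMatrix (A - 1) by rw [map_sub, map_one]]
    exact hbd hA
  let S := A'.charpoly.roots.toFinset
  have hS : ∀ α ∈ S, ‖α - 1‖ ≤ q ^ 2 ∧ ∃ v ≠ 0, A' *ᵥ v = α • v := by
    intro α hα
    obtain ⟨v, hv, hAv⟩ := exists_eigenvector
      ((Polynomial.mem_roots A'.charpoly_monic.ne_zero).mp (Multiset.mem_toFinset.mp hα))
    exact ⟨eigen_sub_one (by positivity) hA' hv hAv, v, hv, hAv⟩
  have hsplit : ∀ x : L, A'.charpoly.eval x = (A'.charpoly.roots.map (fun β => x - β)).prod :=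
    fun x => (IsAlgClosed.splits A'.charpoly).eval_eq_prod_roots_of_monic A'.charpoly_monic x
  have hcard : A'.charpoly.roots.card = n := by
    rw [← (IsAlgClosed.splits A'.charpoly).natDegree_eq_card_roots, charpoly_natDegree_eq_dim, Fintype.card_fin]
  suffices hone : ∀ α ∈ S, α = 1 by
    have hcp : A'.charpoly = (Polynomial.X - Polynomial.C 1) ^ n := by
      conv_lhs => rw [(IsAlgClosed.splits A'.charpoly).eq_prod_roots_of_monic A'.charpoly_monic]
      rw [Multiset.eq_replicate_of_mem (a := (1 : L)) (s := A'.charpoly.roots)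
        (fun α hα => hone α (Multiset.mem_toFinset.mpr hα)), hcard, Multiset.map_replicate, Multiset.prod_replicate]
    have h0 := A'.aeval_self_charpoly
    rw [hcp] at h0
    refine ⟨n, ?_⟩
    have h1 : φ.mapMatrix ((A - 1) ^ n) = 0 := by
      rw [map_pow, map_sub, map_one]
      simpa [A'] using h0
    exact (Matrix.map_injective φ.injective) (h1.trans (map_zero φ.mapMatrix).symm)
  intro α₀ hα₀
  by_contra hne
  obtain ⟨N, hN⟩ : ∃ N : ℕ, N = S.card := ⟨_, rfl⟩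
  let C : ℝ := ‖α₀ - 1‖ * ‖((N.factorial : ℕ) : L)‖ * q ^ c
  have hC : 0 < C := by
    refine mul_pos (mul_pos (norm_pos_iff.mpr (sub_ne_zero.mpr hne)) (norm_pos_iff.mpr ?_)) (pow_pos hq0 _)
    exact Nat.cast_ne_zero.mpr N.factorial_ne_zero
  let ε : ℝ := C / 2
  have hε : 0 < ε := half_pos hC
  obtain ⟨J, hJ⟩ := exists_pow_lt_of_lt_one (pow_pos hε n) hq1
  obtain ⟨m, B, hm1, hm2, hmc, hB⟩ := h J
  let M : Matrix (Fin n) (Fin n) L := A' ^ m
  let B' : (Matrix (Fin n) (Fin n) L)ˣ := Units.map φ.mapMatrix.toMonoidHom B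
  let N' : Matrix (Fin n) (Fin n) L := (B' : Matrix (Fin n) (Fin n) L) * A' * (↑B'⁻¹ : Matrix (Fin n) (Fin n) L)
  have hNM : Bd (q ^ J) (N' - M) := by
    have := hbd hB
    rw [map_sub, map_mul, map_mul, map_pow] at this
    exact this
  have hA1 : Bd 1 A' := bd_one_of_sub hq21 hA'
  have hM1 : Bd 1 M := hA1.pow m
  have hN1 : Bd 1 N' := by
    have := (hNM.mono (pow_le_one₀ hq0.le hq1.le)).add hM1
    rwa [sub_add_cancel] at this
  have step : ∀ α : S, ∃ β : S, ‖(α : L) ^ m - β‖ ≤ ε := by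
    rintro ⟨α, hα⟩
    obtain ⟨hα1, v, hv, hAv⟩ := hS α hα
    have hnorm : ‖α ^ m‖ ≤ 1 := by
      rw [norm_pow]; exact pow_le_one₀ (norm_nonneg _) (norm_le_one_of_sub p (hα1.trans hq21))
    have hsc : Bd 1 (Matrix.scalar (Fin n) (α ^ m) : Matrix (Fin n) (Fin n) L) := fun a b => by
      rcases eq_or_ne a b with rfl | hab
      · rw [Matrix.scalar_apply, Matrix.diagonal_apply_eq]; exact hnorm
      · rw [Matrix.scalar_apply, Matrix.diagonal_apply_ne _ hab, norm_zero]; exact zero_le_one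
    have hsub : ∀ {X : Matrix (Fin n) (Fin n) L}, Bd 1 X → Bd 1 (Matrix.scalar (Fin n) (α ^ m) - X) :=
      fun {X} hX a b => by
        rw [Matrix.sub_apply, sub_eq_add_neg]
        exact (IsUltrametricDist.norm_add_le_max _ _).trans (max_le (hsc a b) (by rw [norm_neg]; exact hX a b))
    have hdet := norm_det_sub_det (pow_nonneg hq0.le J) (hsub hN1) (hsub hM1) (fun a b => by
      have := hNM a b
      simp only [Matrix.sub_apply] at this ⊢
      rwa [show (Matrix.scalar (Fin n) (α ^ m)) a b - N' a b - ((Matrix.scalar (Fin n) (α ^ m)) a b - M a b) =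
        -(N' a b - M a b) by ring, norm_neg])
    rw [det_scalar_sub_pow hv hAv m, sub_zero, ← Matrix.eval_charpoly,
      show N'.charpoly = A'.charpoly by
        simp only [N']; rw [Matrix.coe_units_inv]; exact Matrix.charpoly_units_conj B' A', hsplit] at hdet
    by_contra! hall
    have hge : ∀ s : Multiset L, (∀ β ∈ s, β ∈ S) → ε ^ s.card ≤ ‖(s.map fun β => α ^ m - β).prod‖ := by
      intro s
      induction s using Multiset.induction with
      | empty => simp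
      | cons β s ih =>
        intro hs
        rw [Multiset.card_cons, pow_succ', Multiset.map_cons, Multiset.prod_cons, norm_mul]
        exact mul_le_mul (hall ⟨β, hs β (Multiset.mem_cons_self _ _)⟩).le
          (ih fun γ hγ => hs γ (Multiset.mem_cons_of_mem hγ)) (by positivity) (norm_nonneg _)
    have := hge A'.charpoly.roots fun β hβ => Multiset.mem_toFinset.mpr hβ
    rw [hcard] at this
    exact absurd (this.trans hdet) (not_le.mpr hJ)
  choose f hf using step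
  have hle : ∀ α : S, ‖(α : L)‖ ≤ 1 := fun α => norm_le_one_of_sub p ((hS α α.2).1.trans hq21)
  have iter : ∀ k, ‖α₀ ^ (m ^ k) - ((f^[k] ⟨α₀, hα₀⟩ : S) : L)‖ ≤ ε := by
    intro k
    induction k with
    | zero => simp [hε.le]
    | succ k ih =>
      rw [pow_succ, pow_mul, Function.iterate_succ_apply']
      refine le_trans (le_of_eq ?_) ((IsUltrametricDist.norm_add_le_max _ _).trans (max_le
        ((norm_pow_sub_pow p (by rw [norm_pow]; exact pow_le_one₀ (norm_nonneg _) (hle ⟨α₀, hα₀⟩)) (hle _) m).trans ih)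
        (hf (f^[k] ⟨α₀, hα₀⟩))))
      congr 1
      ring
  obtain ⟨i, j, hij, hfij⟩ : ∃ i j : Fin (N + 1), i < j ∧ f^[i] ⟨α₀, hα₀⟩ = f^[j] ⟨α₀, hα₀⟩ := by
    obtain ⟨i, j, hne', he⟩ := Fintype.exists_ne_map_eq_of_card_lt (fun i : Fin (N + 1) => f^[i] ⟨α₀, hα₀⟩)
      (by simp [hN])
    rcases lt_or_gt_of_ne hne' with h | h
    · exact ⟨i, j, h, he⟩
    · exact ⟨j, i, h, he.symm⟩
  obtain ⟨hα1, -⟩ := hS α₀ hα₀
  have hclose : ‖α₀ ^ (m ^ (j : ℕ)) - α₀ ^ (m ^ (i : ℕ))‖ ≤ ε := by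
    have e : α₀ ^ (m ^ (j : ℕ)) - α₀ ^ (m ^ (i : ℕ)) =
        (α₀ ^ (m ^ (j : ℕ)) - ((f^[j] ⟨α₀, hα₀⟩ : S) : L)) +
          -(α₀ ^ (m ^ (i : ℕ)) - ((f^[i] ⟨α₀, hα₀⟩ : S) : L)) := by rw [hfij]; ring
    rw [e]
    exact (IsUltrametricDist.norm_add_le_max _ _).trans (max_le (iter _) (by rw [norm_neg]; exact iter _))
  obtain ⟨d, hd⟩ : ∃ d, (j : ℕ) = i + d ∧ 0 < d := ⟨j - i, by omega, by omega⟩
  -- `m ≡ 1` modulo `p`, so `m` is prime to `p`
  have hmd : ∀ k, 1 ≤ m ^ k := fun k => Nat.one_le_pow _ _ hm1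
  have hm1' : ‖(m : L) - 1‖ ≤ q ^ 2 := by
    obtain ⟨u, hu⟩ := hm2
    have : (m : L) - 1 = (p : L) ^ 2 * (u : L) := by
      rw [← Nat.cast_one (R := L), ← Nat.cast_sub hm1, hu, Nat.cast_mul, Nat.cast_pow]
    rw [this, norm_mul, norm_pow, norm_prime]
    exact mul_le_of_le_one_right (by positivity) (IsUltrametricDist.norm_natCast_le_one _ u)
  have hmc' : q ^ c ≤ ‖(m : L) - 1‖ := by
    rcases eq_or_ne (m - 1) 0 with h0 | h0
    · exact absurd (h0 ▸ dvd_zero _) hmc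
    obtain ⟨a, u, hu, hau⟩ := Nat.exists_eq_pow_mul_and_not_dvd h0 p (Fact.out : p.Prime).ne_one
    have hac : a ≤ c := by
      by_contra hlt
      exact hmc (hau ▸ dvd_mul_of_dvd_left (pow_dvd_pow p (not_le.mp hlt).le) u)
    rw [← Nat.cast_one (R := L), ← Nat.cast_sub hm1, hau, Nat.cast_mul, Nat.cast_pow, norm_mul, norm_pow,
      norm_prime, norm_coprime p hu, mul_one]
    exact pow_le_pow_of_le_one hq0.le hq1.le hac
  have hmn : ‖(m : L)‖ = 1 := by
    have := IsUltrametricDist.norm_add_eq_max_of_norm_ne_norm (x := (m : L) - 1) (y := (1 : L))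
      (by rw [norm_one]; exact (hm1'.trans_lt (pow_lt_one₀ hq0.le hq1 two_ne_zero)).ne)
    rwa [sub_add_cancel, norm_one, max_eq_right (hm1'.trans hq21)] at this
  -- compute the distance exactly
  let β := α₀ ^ (m ^ (i : ℕ))
  have hβ : ‖β - 1‖ = ‖α₀ - 1‖ := by
    rw [norm_pow_sub_one p α₀ hα1, Nat.cast_pow, norm_pow, hmn, one_pow, one_mul]
  have hdist : ‖α₀ ^ (m ^ (j : ℕ)) - α₀ ^ (m ^ (i : ℕ))‖ = ‖(d : L)‖ * ‖(m : L) - 1‖ * ‖α₀ - 1‖ := by
    have hβ1 : ‖β‖ = 1 := by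
      have := IsUltrametricDist.norm_add_eq_max_of_norm_ne_norm (x := β - 1) (y := (1 : L))
        (by rw [hβ, norm_one]; exact (hα1.trans_lt (pow_lt_one₀ hq0.le hq1 two_ne_zero)).ne)
      rwa [sub_add_cancel, norm_one, max_eq_right (hβ ▸ hα1.trans hq21)] at this
    have hk : 1 ≤ m ^ d := hmd d
    have e : α₀ ^ (m ^ (j : ℕ)) - β = β * (β ^ (m ^ d - 1) - 1) := by
      rw [mul_sub, ← pow_succ', mul_one, Nat.sub_add_cancel hk, hd.1, pow_add, pow_mul]
    rw [e, norm_mul, hβ1, one_mul, norm_pow_sub_one p β (hβ ▸ hα1), hβ, Nat.cast_sub hk, Nat.cast_one,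
      Nat.cast_pow, norm_pow_sub_one p (m : L) hm1']
  rw [hdist] at hclose
  have hfac : ‖((N.factorial : ℕ) : L)‖ ≤ ‖(d : L)‖ := by
    obtain ⟨u, hu⟩ := Nat.dvd_factorial hd.2 (show d ≤ N by omega)
    rw [hu, Nat.cast_mul, norm_mul]
    exact mul_le_of_le_one_right (norm_nonneg _) (IsUltrametricDist.norm_natCast_le_one _ u)
  have hCle : C ≤ ‖(d : L)‖ * ‖(m : L) - 1‖ * ‖α₀ - 1‖ := by
    calc C = ‖((N.factorial : ℕ) : L)‖ * q ^ c * ‖α₀ - 1‖ := by simp only [C]; ring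
      _ ≤ _ := by gcongr
  have := hCle.trans hclose
  simp only [ε] at this
  linarith

end Groth.Agent.QUnip
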