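import Groth.Prelude.Def_SGA7a
import Groth.Agent.Lib.HensH7.Integral
import Mathlib.FieldTheory.IsSepClosed
import Mathlib.FieldTheory.Galois.Infinite
import Mathlib.RingTheory.DiscreteValuationRing.Basic
import Mathlib.Algebra.BigOperators.Field
import Mathlib.RingTheory.Polynomial.UniqueFactorization
import Mathlib.RingTheory.Valuation.ValuationSubring
import Mathlib.RingTheory.RootsOfUnity.EnoughRootsOfUnity
import Mathlib.RingTheory.RootsOfUnity.AlgebraicallyClosed
import Mathlib.FieldTheory.Minpoly.IsIntegrallyClosed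
import Mathlib.FieldTheory.IntermediateField.Adjoin.Basic

/-!
# Valuation subrings over a henselian discrete valuation ring and their inertia
-/

universe u

open Polynomial

namespace Groth.Agent.QUnip

section general

variable {K Ω : Type u} [Field K] [Field Ω] [Algebra K Ω] (W : ValuationSubring Ω)

/-- Congruent to one modulo the maximal ideal. -/
def One (x : Ω) : Prop := W.valuation (x - 1) < 1

variable {W}

theorem One.val {x : Ω} (h : One W x) : W.valuation x = 1 := by
  have := Valuation.map_one_add_of_lt (v := W.valuation) h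
  rwa [add_sub_cancel] at this

theorem one_one : One W (1 : Ω) := by simp [One]

theorem One.mul {x y : Ω} (hx : One W x) (hy : One W y) : One W (x * y) := by
  unfold One
  have e : x * y - 1 = x * (y - 1) + (x - 1) := by ring
  rw [e]
  refine lt_of_le_of_lt (Valuation.map_add _ _ _) (max_lt ?_ hx)
  rw [map_mul, hx.val, one_mul]; exact hy

theorem One.inv {x : Ω} (hx : One W x) : One W x⁻¹ := by
  unfold One
  have h0 : x ≠ 0 := fun h => by simpa [h] using hx.val
  have e : x⁻¹ - 1 = -(x - 1) * x⁻¹ := by field_simp; ring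
  rw [e, map_mul, Valuation.map_neg, map_inv₀, hx.val, inv_one, mul_one]
  exact hx

theorem One.pow {x : Ω} (hx : One W x) : ∀ k, One W (x ^ k)
  | 0 => by simpa using one_one
  | k + 1 => by rw [pow_succ]; exact (One.pow hx k).mul hx

theorem isInertia_one : SGA7.IsInertia W (1 : Ω ≃ₐ[K] Ω) := fun x hx => ⟨by simpa using hx, by simp⟩

theorem one_div_of_inertia {σ : Ω ≃ₐ[K] Ω} (hσ : SGA7.IsInertia W σ) {u : Ω} (hu : W.valuation u = 1) :
    One W (σ u / u) := by
  have hu0 : u ≠ 0 := fun h => by simp [h] at hu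
  unfold One
  rw [div_sub_one hu0, map_div₀, hu, div_one]
  exact (hσ u (W.mem_of_valuation_le_one u hu.le)).2

theorem val_inertia {σ : Ω ≃ₐ[K] Ω} (hσ : SGA7.IsInertia W σ) {u : Ω} (hu : W.valuation u = 1) :
    W.valuation (σ u) = 1 := by
  have h := (one_div_of_inertia hσ hu).val
  rwa [map_div₀, hu, div_one] at h

theorem isInertia_mul {σ τ : Ω ≃ₐ[K] Ω} (hσ : SGA7.IsInertia W σ) (hτ : SGA7.IsInertia W τ) :
    SGA7.IsInertia W (σ * τ) := fun x hx => by
  obtain ⟨h1, h2⟩ := hτ x hx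
  refine ⟨(hσ _ h1).1, ?_⟩
  rw [AlgEquiv.mul_apply, show σ (τ x) - x = (σ (τ x) - τ x) + (τ x - x) by ring]
  exact lt_of_le_of_lt (Valuation.map_add _ _ _) (max_lt (hσ _ h1).2 h2)

theorem isInertia_inv {σ : Ω ≃ₐ[K] Ω} (hσ : SGA7.IsInertia W σ) : SGA7.IsInertia W σ⁻¹ := fun x hx => by
  have hy : σ⁻¹ x ∈ W := by
    by_contra hn
    have hv : 1 < W.valuation (σ⁻¹ x) := lt_of_not_ge fun h => hn (W.mem_of_valuation_le_one _ h)
    have hlt : W.valuation (σ⁻¹ x)⁻¹ < 1 := by rw [map_inv₀]; exact inv_lt_one_of_one_lt₀ hv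
    obtain ⟨-, h2⟩ := hσ _ (W.mem_of_valuation_le_one _ hlt.le)
    have h3 : W.valuation (σ (σ⁻¹ x)⁻¹) < 1 := by
      rw [show σ (σ⁻¹ x)⁻¹ = (σ (σ⁻¹ x)⁻¹ - (σ⁻¹ x)⁻¹) + (σ⁻¹ x)⁻¹ by ring]
      exact lt_of_le_of_lt (Valuation.map_add _ _ _) (max_lt h2 hlt)
    rw [map_inv₀ σ, ← AlgEquiv.mul_apply, mul_inv_cancel, AlgEquiv.one_apply, map_inv₀] at h3
    have hx1 : W.valuation x ≤ 1 := (W.valuation_le_one_iff x).mpr hx
    rcases eq_or_ne x 0 with rfl | hx0
    · exact hn (by simp)
    · exact absurd h3 (not_lt.mpr ((one_le_inv₀ (zero_lt_iff.mpr (by simpa using hx0))).mpr hx1))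
  refine ⟨hy, ?_⟩
  have h2 := (hσ _ hy).2
  rw [← AlgEquiv.mul_apply, mul_inv_cancel, AlgEquiv.one_apply, Valuation.map_sub_swap] at h2
  exact h2

theorem isInertia_pow {σ : Ω ≃ₐ[K] Ω} (hσ : SGA7.IsInertia W σ) : ∀ k, SGA7.IsInertia W (σ ^ k)
  | 0 => by rw [pow_zero]; exact isInertia_one
  | k + 1 => by rw [pow_succ]; exact isInertia_mul (isInertia_pow hσ k) hσ

theorem isInertia_conj {σ g : Ω ≃ₐ[K] Ω} (hσ : SGA7.IsInertia W σ)
    (hW : ∀ (g : Ω ≃ₐ[K] Ω) (x : Ω), x ∈ W → g x ∈ W) : SGA7.IsInertia W (g * σ * g⁻¹) := fun x hx => by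
  obtain ⟨h1, h2⟩ := hσ _ (hW g⁻¹ x hx)
  refine ⟨hW g _ h1, ?_⟩
  have e : (g * σ * g⁻¹) x - x = g (σ (g⁻¹ x) - g⁻¹ x) := by
    rw [map_sub, ← AlgEquiv.mul_apply g g⁻¹, mul_inv_cancel]; rfl
  rw [e]
  by_contra hle
  push_neg at hle
  set d := σ (g⁻¹ x) - g⁻¹ x with hd
  have hd0 : d ≠ 0 := fun h => by simp [h] at hle
  have hinv : (g d)⁻¹ ∈ W := W.mem_of_valuation_le_one _ (by rw [map_inv₀]; exact inv_le_one_of_one_le₀ hle)
  have h3 := hW g⁻¹ _ hinv
  rw [map_inv₀, ← AlgEquiv.mul_apply, inv_mul_cancel, AlgEquiv.one_apply, ← W.valuation_le_one_iff, map_inv₀,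
    inv_le_one₀ (zero_lt_iff.mpr (by simpa using hd0))] at h3
  exact absurd h2 (not_lt.mpr h3)

theorem root_eq_one {r : ℕ} (hr : W.valuation (r : Ω) = 1) {ζ : Ω} (hz : ζ ^ r = 1) (h : One W ζ) :
    ζ = 1 := by
  by_contra hne
  have hs : ∑ i ∈ Finset.range r, ζ ^ i = 0 := by
    have := geom_sum_mul ζ r
    rw [hz, sub_self] at this
    exact (mul_eq_zero.mp this).resolve_right (sub_ne_zero.mpr hne)
  have hlt : W.valuation (∑ i ∈ Finset.range r, (ζ ^ i - 1)) < 1 :=
    Valuation.map_sum_lt _ one_ne_zero fun i _ => One.pow h i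
  rw [Finset.sum_sub_distrib, hs, zero_sub, Valuation.map_neg, Finset.sum_const, Finset.card_range,
    nsmul_eq_mul, mul_one, hr] at hlt
  exact lt_irrefl _ hlt

theorem inertia_fix_root {σ : Ω ≃ₐ[K] Ω} (hσ : SGA7.IsInertia W σ) {r : ℕ}
    (hr : W.valuation (r : Ω) = 1) {ζ : Ω} (hz : ζ ^ r = 1) : σ ζ = ζ := by
  have hr0 : r ≠ 0 := by rintro rfl; simp at hr
  have hv : W.valuation ζ = 1 := by
    have h : W.valuation ζ ^ r = 1 := by rw [← map_pow, hz, map_one]
    exact (pow_eq_one_iff_of_nonneg zero_le' hr0).mp h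
  have hz0 : ζ ≠ 0 := fun h => by simp [h] at hv
  exact div_eq_one_iff_eq hz0 |>.mp (root_eq_one hr
    (by rw [div_pow, ← map_pow, hz, map_one, one_div_one]) (one_div_of_inertia hσ hv))

/-- If `τ` acts with trivial tame character on an element killed by `τ ^ d`, `d` a unit, it fixes it. -/
theorem eq_of_wild {d : ℕ} (hd : W.valuation (d : Ω) = 1) {τ : Ω ≃ₐ[K] Ω} {x : Ω}
    (hfix : (τ ^ d) x = x) (h : ∀ j, τ x - x ≠ 0 → One W ((τ ^ j) (τ x - x) / (τ x - x))) : τ x = x := by
  by_contra hne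
  have hδ : τ x - x ≠ 0 := sub_ne_zero.mpr hne
  have hsum : ∑ j ∈ Finset.range d, (τ ^ j) (τ x - x) = 0 := by
    have : ∀ j, (τ ^ j) (τ x - x) = (τ ^ (j + 1)) x - (τ ^ j) x := fun j => by
      rw [map_sub, pow_succ, AlgEquiv.mul_apply]
    simp only [this]
    rw [Finset.sum_range_sub (fun j => (τ ^ j) x), hfix, pow_zero, AlgEquiv.one_apply, sub_self]
  have hlt : W.valuation (∑ j ∈ Finset.range d, ((τ ^ j) (τ x - x) / (τ x - x) - 1)) < 1 :=
    Valuation.map_sum_lt _ one_ne_zero fun j _ => h j hδ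
  rw [Finset.sum_sub_distrib, ← Finset.sum_div, hsum, zero_div, zero_sub, Valuation.map_neg, Finset.sum_const,
    Finset.card_range, nsmul_eq_mul, mul_one, hd] at hlt
  exact lt_irrefl _ hlt

theorem val_zpow_root {Γ : Type*} [LinearOrderedCommGroupWithZero Γ] {a : Γ} {k : ℕ} (hk : k ≠ 0)
    (h : a ^ k = 1) : a = 1 :=
  (pow_eq_one_iff_of_nonneg zero_le' hk).mp h

end general

variable {R K Ω : Type u} [CommRing R] [IsDomain R] [IsDiscreteValuationRing R]
  [Field K] [Algebra R K] [IsFractionRing R K] [Field Ω] [Algebra K Ω] {W : ValuationSubring Ω}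

omit [IsDiscreteValuationRing R] [IsFractionRing R K] in
theorem val_unit [IsLocalRing R] (hW : SGA7.LiesOver K R W) {a : R} (ha : IsUnit a) :
    W.valuation (algebraMap K Ω (algebraMap R K a)) = 1 := by
  have h1 := hW.1 a
  refine (W.valuation_eq_one_iff ⟨_, h1⟩).mp ⟨⟨⟨_, h1⟩, ⟨_, hW.1 ↑ha.unit⁻¹⟩, ?_, ?_⟩, rfl⟩ <;>
  · apply Subtype.ext
    show algebraMap K Ω (algebraMap R K _) * algebraMap K Ω (algebraMap R K _) = 1
    rw [← map_mul, ← map_mul]
    simp [IsUnit.mul_val_inv, IsUnit.val_inv_mul]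

omit [IsFractionRing R K] in
theorem val_natCast (hW : SGA7.LiesOver K R W) {r : ℕ} (hr : (r : IsLocalRing.ResidueField R) ≠ 0) :
    W.valuation (r : Ω) = 1 := by
  have hu : IsUnit (r : R) := by
    by_contra h
    refine hr ?_
    rw [← map_natCast (IsLocalRing.residue R), IsLocalRing.residue_eq_zero_iff]
    exact h
  simpa using val_unit hW hu

/-- The valuation of a nonzero element of `K` is a power of that of a uniformizer. -/
theorem exists_zpow (hW : SGA7.LiesOver K R W) {ϖ : R} (hϖ : Irreducible ϖ) {c : K} (hc : c ≠ 0) :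
    ∃ z : ℤ, W.valuation (algebraMap K Ω c) = W.valuation (algebraMap K Ω (algebraMap R K ϖ)) ^ z := by
  obtain ⟨num, den, hden, rfl⟩ := IsFractionRing.div_surjective (A := R) c
  have hden0 : den ≠ 0 := nonZeroDivisors.ne_zero hden
  have hnum0 : num ≠ 0 := fun h => hc (by rw [h, map_zero, zero_div])
  obtain ⟨a, u, hu⟩ := IsDiscreteValuationRing.eq_unit_mul_pow_irreducible hnum0 hϖ
  obtain ⟨b, v, hv⟩ := IsDiscreteValuationRing.eq_unit_mul_pow_irreducible hden0 hϖ
  refine ⟨(a : ℤ) - b, ?_⟩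
  have h0 : W.valuation (algebraMap K Ω (algebraMap R K ϖ)) ≠ 0 := by simp [hϖ.ne_zero]
  rw [hu, hv, zpow_sub₀ h0, zpow_natCast, zpow_natCast]
  simp only [map_mul, map_pow, map_div₀, val_unit hW u.isUnit, val_unit hW v.isUnit, one_mul]

/-- Some power of `y` has the valuation of an element of `K`. -/
theorem exists_exponent [Algebra.IsAlgebraic K Ω] (M : IntermediateField K Ω) [FiniteDimensional K M]
    {y : Ω} (hy : y ∈ M) (hy0 : y ≠ 0) :
    ∃ (e : ℕ) (c : K), 0 < e ∧ e ≤ Module.finrank K M ∧ c ≠ 0 ∧ W.valuation (y ^ e) = W.valuation (algebraMap K Ω c) := by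
  classical
  let P := minpoly K y
  have hint : IsIntegral K y := (Algebra.IsAlgebraic.isAlgebraic y).isIntegral
  have hdeg : P.natDegree ≤ Module.finrank K M := by
    rw [show P = minpoly K (⟨y, hy⟩ : M) from minpoly.algebraMap_eq (algebraMap M Ω).injective (⟨y, hy⟩ : M)]
    exact minpoly.natDegree_le _
  let t : ℕ → Ω := fun i => algebraMap K Ω (P.coeff i) * y ^ i
  have hsum : ∑ i ∈ Finset.range (P.natDegree + 1), t i = 0 := by
    have := minpoly.aeval K y
    rw [aeval_eq_sum_range] at this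
    simpa [t, Algebra.smul_def] using this
  obtain ⟨i, hi, hmax⟩ := Finset.exists_max_image (Finset.range (P.natDegree + 1)) (fun i => W.valuation (t i))
    ⟨0, by simp⟩
  have hpos : 0 < W.valuation (t i) := by
    refine lt_of_lt_of_le ?_ (hmax P.natDegree (by simp))
    have : P.coeff P.natDegree = 1 := (minpoly.monic hint).coeff_natDegree
    simp [t, this, zero_lt_iff, hy0]
  obtain ⟨j, hj, hji, hjv⟩ : ∃ j ∈ Finset.range (P.natDegree + 1), j ≠ i ∧ W.valuation (t j) = W.valuation (t i) := by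
    by_contra! h
    have := Valuation.map_sum_eq_of_lt W.valuation hi (f := t) fun k hk => lt_of_le_of_ne
      (hmax k (Finset.mem_sdiff.mp hk).1) (h k (Finset.mem_sdiff.mp hk).1 (by simpa using (Finset.mem_sdiff.mp hk).2))
    rw [hsum, map_zero] at this
    exact hpos.ne' this.symm
  obtain ⟨i', j', hlt, hj', heq, hpos'⟩ : ∃ i' j', i' < j' ∧ j' ≤ P.natDegree ∧
      W.valuation (t i') = W.valuation (t j') ∧ 0 < W.valuation (t i') := by
    rcases lt_or_gt_of_ne hji with h | h
    · exact ⟨j, i, h, by simp at hi; omega, hjv, hjv ▸ hpos⟩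
    · exact ⟨i, j, h, by simp at hj; omega, hjv.symm, hpos⟩
  have hc1 : P.coeff i' ≠ 0 := fun h => by simp [t, h] at hpos'
  have hc2 : P.coeff j' ≠ 0 := fun h => by simp [t, heq, h] at hpos'
  refine ⟨j' - i', P.coeff i' / P.coeff j', by omega, by omega, div_ne_zero hc1 hc2, ?_⟩
  have h2 : W.valuation (algebraMap K Ω (P.coeff j')) ≠ 0 := by simpa using hc2
  rw [map_div₀, map_div₀, eq_div_iff h2]
  have hyv : W.valuation y ^ i' ≠ 0 := pow_ne_zero _ (by simpa using hy0)
  simp only [t, map_mul, map_pow] at heq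
  apply mul_right_cancel₀ hyv
  rw [heq, map_pow, mul_right_comm, ← pow_add, Nat.sub_add_cancel hlt.le, mul_comm]

variable [HenselianLocalRing R] [IsSepClosure K Ω]

/-- Over a henselian ring, `W` consists of the integral elements, so it is Galois stable. -/
theorem stable (hW : SGA7.LiesOver K R W) (g : Ω ≃ₐ[K] Ω) (x : Ω) (hx : x ∈ W) : g x ∈ W := by
  classical
  letI : Algebra R Ω := ((algebraMap K Ω).comp (algebraMap R K)).toAlgebra
  haveI : IsScalarTower R K Ω := IsScalarTower.of_algebraMap_eq fun _ => rfl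
  let S := integralClosure R Ω
  letI : Algebra R W := ((algebraMap R Ω).codRestrict W.toSubring hW.1).toAlgebra
  haveI : IsScalarTower R W Ω := IsScalarTower.of_algebraMap_eq fun _ => rfl
  have hintW : ∀ z : Ω, IsIntegral R z → z ∈ W := fun z hz => by
    obtain ⟨w, rfl⟩ := IsIntegrallyClosed.algebraMap_eq_of_integral (R := W) (K := Ω) (hz.tower_top (A := W))
    exact w.2
  suffices hS : x ∈ S by
    refine hintW _ ?_
    exact hS.map (g.toAlgHom.restrictScalars R)
  by_contra hxS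
  haveI : IsLocalRing S := HensH7.isLocalRing_of_integral_domain R
  have key : ∀ (n : ℕ) (a : ℕ → S), (∑ i ∈ Finset.range (n + 1), (a i : Ω) * x ^ i = 0) →
      (∃ i ≤ n, IsUnit (a i)) → x⁻¹ ∈ S := by
    intro n
    induction n with
    | zero =>
      intro a h ⟨i, hi, hu⟩
      obtain rfl : i = 0 := by omega
      simp only [Finset.sum_range_succ, Finset.sum_range_zero, zero_add, pow_zero, mul_one] at h
      exact absurd (Subtype.ext h : a 0 = 0) hu.ne_zero
    | succ n ih =>
      intro a h hu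
      have hax : (a (n + 1) : Ω) * x ∈ S := by
        let P : S[X] := ∑ i ∈ Finset.range (n + 1 + 1), C (a i) * X ^ i
        by_cases han : a (n + 1) = 0
        · rw [han]; simp
        have hP : aeval x P = 0 := by simpa [P] using h
        have hnd : P.natDegree = n + 1 := by
          refine le_antisymm (natDegree_sum_le_of_forall_le _ _ fun i hi => ?_) ?_
          · exact (natDegree_C_mul_X_pow_le _ _).trans (by simp at hi; omega)
          · refine le_natDegree_of_ne_zero ?_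
            simp [P, coeff_C_mul_X_pow, han]
        have hlc : P.leadingCoeff = a (n + 1) := by
          rw [leadingCoeff, hnd]; simp [P, coeff_C_mul_X_pow]
        have := isIntegral_leadingCoeff_smul P x hP
        rw [hlc] at this
        exact isIntegral_trans (R := R) (A := S) _ this
      let c : S := ⟨_, hax⟩
      obtain ⟨i, hi, hui⟩ := hu
      have h' : ∑ j ∈ Finset.range (n + 1), ((if j = n then c + a n else a j : S) : Ω) * x ^ j = 0 := by
        rw [Finset.sum_range_succ, Finset.sum_congr rfl (fun j hj => by rw [if_neg (Finset.mem_range.mp hj).ne]),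
          if_pos rfl]
        rw [Finset.sum_range_succ, Finset.sum_range_succ] at h
        rw [← h]
        show _ + ((a (n + 1) : Ω) * x + (a n : Ω)) * x ^ n = _
        ring
      by_cases hex : ∃ j ≤ n, IsUnit (if j = n then c + a n else a j)
      · exact ih _ h' hex
      push_neg at hex
      have hb : ¬ IsUnit (c + a n) := by simpa using hex n le_rfl
      rcases lt_trichotomy i n with hlt | rfl | hgt
      · exact absurd (by simpa [hlt.ne] using hui) (hex i hlt.le)
      · have hcu : IsUnit c := by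
          by_contra hc
          refine hb ?_ |>.elim
          exact ((IsLocalRing.isUnit_or_isUnit_of_isUnit_add (a := c + a i) (b := -c)
            (by simpa using hui)).resolve_right fun h => hc (IsUnit.neg_iff _ |>.mp h))
        have hx0 : x ≠ 0 := fun h0 => hxS (h0 ▸ zero_mem _)
        have e : x⁻¹ = ((a (i + 1) * ↑hcu.unit⁻¹ : S) : Ω) := by
          have h1 : (c : Ω) * ((↑hcu.unit⁻¹ : S) : Ω) = 1 := by
            exact_mod_cast congrArg Subtype.val hcu.mul_val_inv
          change (a (i + 1) : Ω) * x * _ = 1 at h1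
          push_cast
          field_simp
          linear_combination -h1
        rw [e]; exact SetLike.coe_mem _
      · obtain rfl : i = n + 1 := by omega
        refine absurd ?_ hxS
        have e : x = ((↑hui.unit⁻¹ * c : S) : Ω) := by
          have h1 : (a (n + 1) : Ω) * ((↑hui.unit⁻¹ : S) : Ω) = 1 := by
            exact_mod_cast congrArg Subtype.val hui.mul_val_inv
          push_cast
          show x = _ * ((a (n + 1) : Ω) * x)
          linear_combination -x * h1
        rw [e]; exact SetLike.coe_mem _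
  haveI : Algebra.IsAlgebraic K Ω := (IsSepClosure.isGalois (k := K) (K := Ω)).to_isSeparable.isAlgebraic
  obtain ⟨P, hP0, hP⟩ := (IsFractionRing.isAlgebraic_iff R K Ω).mpr (Algebra.IsAlgebraic.isAlgebraic x)
  obtain ⟨ϖ, hϖ⟩ := IsDiscreteValuationRing.exists_irreducible R
  obtain ⟨k, Q, hQ, hPQ⟩ := WfDvdMonoid.max_power_factor hP0
    ((prime_C_iff.mpr hϖ.prime).irreducible)
  have hQx : aeval x Q = 0 := by
    rw [hPQ, map_mul, map_pow, aeval_C] at hP
    refine (mul_eq_zero.mp hP).resolve_left (pow_ne_zero _ ?_)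
    simpa [RingHom.algebraMap_toAlgebra] using hϖ.ne_zero
  obtain ⟨i, hi⟩ : ∃ i, IsUnit (Q.coeff i) := by
    by_contra! h
    refine hQ (C_dvd_iff_dvd_coeff ϖ Q |>.mpr fun i => ?_)
    have := (IsLocalRing.mem_maximalIdeal _).mpr (h i)
    rwa [hϖ.maximalIdeal_eq, Ideal.mem_span_singleton] at this
  have hinv : x⁻¹ ∈ S := by
    refine key Q.natDegree (fun j => algebraMap R S (Q.coeff j)) ?_
      ⟨i, le_natDegree_of_ne_zero hi.ne_zero, hi.map _⟩
    rw [aeval_eq_sum_range] at hQx
    simpa [Algebra.smul_def] using hQx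
  -- the center of `W` on `S` is the maximal ideal
  let ι : S →+* W := S.val.toRingHom.codRestrict W.toSubring fun z => hintW _ z.2
  let P0 : Ideal S := (IsLocalRing.maximalIdeal W).comap ι
  haveI : P0.IsPrime := Ideal.IsPrime.comap ι
  have hover : P0.comap (algebraMap R S) = IsLocalRing.maximalIdeal R := by
    refine (Ideal.IsMaximal.eq_of_le inferInstance (Ideal.IsPrime.ne_top inferInstance) fun r hr => ?_).symm
    show ι (algebraMap R S r) ∈ IsLocalRing.maximalIdeal W
    exact (W.valuation_lt_one_iff _).mpr (hW.2 r hr)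
  haveI : P0.IsMaximal := Ideal.isMaximal_of_isIntegral_of_isMaximal_comap P0 (by rw [hover]; infer_instance)
  have hP0 : P0 = IsLocalRing.maximalIdeal S := IsLocalRing.eq_maximalIdeal inferInstance
  have hnu : ¬ IsUnit (⟨x⁻¹, hinv⟩ : S) := fun hu => hxS (by
    have h1 : x⁻¹ * ((↑hu.unit⁻¹ : S) : Ω) = 1 := congrArg Subtype.val hu.mul_val_inv
    have h2 : ((↑hu.unit⁻¹ : S) : Ω) = x := by
      have := eq_inv_of_mul_eq_one_right h1
      rwa [inv_inv] at this
    exact h2 ▸ SetLike.coe_mem _)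
  have hlt := (W.valuation_lt_one_iff (ι ⟨x⁻¹, hinv⟩)).mp
    (show (⟨x⁻¹, hinv⟩ : S) ∈ P0 from hP0 ▸ (IsLocalRing.mem_maximalIdeal _).mpr hnu)
  change W.valuation x⁻¹ < 1 at hlt
  rw [map_inv₀] at hlt
  rcases eq_or_ne x 0 with rfl | hx0
  · exact hxS (zero_mem _)
  · exact absurd hlt (not_lt.mpr ((one_le_inv₀ (zero_lt_iff.mpr (by simpa using hx0))).mpr
      ((W.valuation_le_one_iff x).mpr hx)))

omit [HenselianLocalRing R] in
/-- An inertia element fixing a deep root of a uniformizer has order prime to `lam` on `M`. -/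
theorem exists_coprime_fixing (hW : SGA7.LiesOver K R W) {lam : ℕ} (hlam : lam.Prime)
    (hl : (lam : IsLocalRing.ResidueField R) ≠ 0) {ϖ : R} (hϖ : Irreducible ϖ)
    (M : IntermediateField K Ω) [FiniteDimensional K M] [Normal K M] {N : ℕ} (hN : Module.finrank K M ≤ N)
    {P : Ω} (hP : P ^ lam ^ N = algebraMap K Ω (algebraMap R K ϖ))
    {σ : Ω ≃ₐ[K] Ω} (hσ : SGA7.IsInertia W σ) (hσP : σ P = P) :
    ∃ d : ℕ, ¬ lam ∣ d ∧ σ ^ d ∈ M.fixingSubgroup := by
  haveI : Algebra.IsAlgebraic K Ω := (IsSepClosure.isGalois (k := K) (K := Ω)).to_isSeparable.isAlgebraic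
  let res := AlgEquiv.restrictNormalHom M (F := K) (K₁ := Ω)
  have ho : orderOf (res σ) ≠ 0 := (isOfFinOrder_of_finite _).orderOf_pos.ne'
  obtain ⟨b, d, hd, hbd⟩ := Nat.exists_eq_pow_mul_and_not_dvd ho lam hlam.ne_one
  refine ⟨d, hd, ?_⟩
  let τ := σ ^ d
  have hτ : SGA7.IsInertia W τ := isInertia_pow hσ d
  have hτP : τ P = P := by
    have : ∀ k, (σ ^ k) P = P := fun k => by
      induction k with
      | zero => rfl
      | succ k ih => rw [pow_succ, AlgEquiv.mul_apply, hσP, ih]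
    exact this d
  have hfix : ∀ y ∈ M, (τ ^ lam ^ b) y = y := by
    intro y hy
    have h1 : res (τ ^ lam ^ b) = 1 := by
      rw [← pow_mul, mul_comm, ← hbd, map_pow, pow_orderOf_eq_one]
    have h2 := AlgEquiv.restrictNormal_commutes (τ ^ lam ^ b) M ⟨y, hy⟩
    change algebraMap M Ω (res (τ ^ lam ^ b) ⟨y, hy⟩) = _ at h2
    rw [h1] at h2
    exact h2.symm
  have hl1 : W.valuation (lam : Ω) = 1 := val_natCast hW hl
  have hlb : ∀ k, W.valuation ((lam ^ k : ℕ) : Ω) = 1 := fun k => by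
    push_cast; rw [map_pow, hl1, one_pow]
  have hP0 : P ≠ 0 := fun h => by
    rw [h, zero_pow (pow_ne_zero _ hlam.pos.ne')] at hP
    exact hϖ.ne_zero (IsFractionRing.injective R K (by
      rw [map_zero]; exact (algebraMap K Ω).injective (by rw [map_zero]; exact hP.symm)))
  -- the tame character of `τ` is trivial on `M`
  have tame : ∀ y ∈ M, y ≠ 0 → One W (τ y / y) := by
    intro y hy hy0
    obtain ⟨e, c, he0, heN, hc, hev⟩ := exists_exponent (W := W) M hy hy0
    obtain ⟨z, hz⟩ := exists_zpow hW hϖ hc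
    obtain ⟨a, e', he', hae⟩ := Nat.exists_eq_pow_mul_and_not_dvd he0.ne' lam hlam.ne_one
    have he'0 : e' ≠ 0 := by rintro rfl; simp at he'
    have haN : a ≤ N := by
      have h1 : a < lam ^ a := Nat.lt_pow_self hlam.one_lt
      have h2 : lam ^ a ≤ e := Nat.le_of_dvd he0 ⟨e', hae⟩
      omega
    let u : Ω := y ^ e' / P ^ (z * ((lam ^ (N - a) : ℕ) : ℤ))
    have hu : W.valuation u = 1 := by
      refine val_zpow_root (k := lam ^ a) (pow_ne_zero _ hlam.pos.ne') ?_
      rw [← map_pow, div_pow, map_div₀, ← pow_mul, mul_comm e', ← hae, hev, hz]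
      rw [← zpow_natCast (P ^ _), ← zpow_mul, mul_assoc, ← Nat.cast_mul, ← pow_add, Nat.sub_add_cancel haN,
        mul_comm z, zpow_mul, zpow_natCast, hP, map_zpow₀, div_self]
      exact zpow_ne_zero _ (by simp [hϖ.ne_zero])
    have h1 := one_div_of_inertia hτ hu
    have h2 : One W ((τ y / y) ^ e') := by
      have e0 : τ u / u = (τ y / y) ^ e' := by
        simp only [u, map_div₀, map_pow, map_zpow₀, hτP, div_pow]
        field_simp
      rwa [e0] at h1
    have hv : W.valuation (τ y / y) = 1 := val_zpow_root he'0 (by rw [← map_pow]; exact h2.val)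
    have h3 : ∀ k, One W ((τ ^ k) y / y / (τ y / y) ^ k) := by
      intro k
      induction k with
      | zero => simpa [hy0] using one_one
      | succ k ih =>
        have hτy : τ y ≠ 0 := by simpa using hy0
        have e1 : (τ ^ (k + 1)) y / y / (τ y / y) ^ (k + 1) =
            ((τ ^ k) (τ y / y) / (τ y / y)) * ((τ ^ k) y / y / (τ y / y) ^ k) := by
          rw [pow_succ τ, AlgEquiv.mul_apply, map_div₀, pow_succ (τ y / y)]
          have : (τ ^ k) y ≠ 0 := (_root_.map_ne_zero _).mpr hy0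
          field_simp
        rw [e1]
        exact (one_div_of_inertia (isInertia_pow hτ k) hv).mul ih
    have h4 : One W ((τ y / y) ^ lam ^ b) := by
      have := (h3 (lam ^ b)).inv
      rwa [hfix y hy, div_self hy0, one_div, inv_inv] at this
    rcases Nat.eq_zero_or_pos b with rfl | hb
    · simpa using h4
    have hcop : e'.Coprime (lam ^ b) := ((hlam.coprime_iff_not_dvd.mpr he').symm).pow_right b
    obtain ⟨m, -, hm⟩ := Nat.exists_mul_mod_eq_one_of_coprime hcop (Nat.one_lt_pow hb.ne' hlam.one_lt)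
    have h5 : One W ((τ y / y) ^ (lam ^ b * (e' * m / lam ^ b) + 1)) := by
      have := h2.pow m
      rw [← pow_mul] at this
      conv at this => arg 2; arg 2; rw [← Nat.div_add_mod (e' * m) (lam ^ b), hm]
      exact this
    have h6 := ((h4.pow (e' * m / lam ^ b)).inv).mul h5
    rw [← pow_mul, pow_succ, ← mul_assoc, inv_mul_cancel₀ (pow_ne_zero _ (fun h => by simp [h] at hv)), one_mul] at h6
    exact h6
  rw [IntermediateField.mem_fixingSubgroup_iff]
  intro y hy
  refine eq_of_wild (hlb b) (hfix y hy) fun j hne => ?_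
  have hmem : ∀ w ∈ M, τ w ∈ M := fun w hw => by
    have h := AlgEquiv.restrictNormal_commutes τ M ⟨w, hw⟩
    change _ = τ w at h
    rw [← h]; exact SetLike.coe_mem _
  have hδ : τ y - y ∈ M := sub_mem (hmem y hy) hy
  induction j with
  | zero => rw [pow_zero, AlgEquiv.one_apply, div_self hne]; exact one_one
  | succ j ih =>
    have hj0 : (τ ^ j) (τ y - y) ≠ 0 := (_root_.map_ne_zero _).mpr hne
    have hjM : (τ ^ j) (τ y - y) ∈ M := by
      have : ∀ k, (τ ^ k) (τ y - y) ∈ M := fun k => by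
        induction k with
        | zero => exact hδ
        | succ k ihk => rw [pow_succ', AlgEquiv.mul_apply]; exact hmem _ ihk
      exact this j
    have := (tame _ hjM hj0).mul ih
    rwa [div_mul_div_cancel₀ hj0, ← AlgEquiv.mul_apply, ← pow_succ'] at this

omit [HenselianLocalRing R] in
/-- Some automorphism acts nontrivially on roots of unity of `lam`-power order, trivially at level two. -/
theorem exists_cyclotomic (hW : SGA7.LiesOver K R W) {lam : ℕ} (hlam : lam.Prime)
    (hl : (lam : IsLocalRing.ResidueField R) ≠ 0)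
    (hstar : ∀ (k' : Type u) [Field k'] [Algebra (IsLocalRing.ResidueField R) k'],
      FiniteDimensional (IsLocalRing.ResidueField R) k' → ∃ m : ℕ, ∀ ζ : k', ¬ IsPrimitiveRoot ζ (lam ^ m)) :
    ∃ (g : Ω ≃ₐ[K] Ω) (c : ℕ), ∀ N, c ≤ N → 2 ≤ N → ∃ (ζ : Ω) (m : ℕ), IsPrimitiveRoot ζ (lam ^ N) ∧
      1 ≤ m ∧ lam ^ 2 ∣ m - 1 ∧ ¬ lam ^ c ∣ m - 1 ∧ g ζ = ζ ^ m := by
  classical
  haveI : IsGalois K Ω := IsSepClosure.isGalois
  haveI : IsSepClosed Ω := IsSepClosure.sep_closed K
  have hl1 : W.valuation (lam : Ω) = 1 := val_natCast hW hl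
  have hlb : ∀ k, W.valuation ((lam ^ k : ℕ) : Ω) = 1 := fun k => by
    push_cast; rw [map_pow, hl1, one_pow]
  have hprim : ∀ k, ∃ ζ : Ω, IsPrimitiveRoot ζ (lam ^ k) := fun k => by
    haveI : NeZero (lam ^ k) := ⟨pow_ne_zero _ hlam.pos.ne'⟩
    haveI : NeZero ((lam ^ k : ℕ) : Ω) := ⟨fun h => by simpa [h] using hlb k⟩
    exact HasEnoughRootsOfUnity.exists_primitiveRoot Ω _
  obtain ⟨ζ₂, hζ₂⟩ := hprim 2
  have hpos : ∀ k, lam ^ k ≠ 0 := fun k => pow_ne_zero _ hlam.pos.ne'
  haveI := IntermediateField.adjoin.finiteDimensional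
    (IsIntegral.of_pow (Nat.pos_of_ne_zero (hpos 2)) (by rw [hζ₂.pow_eq_one]; exact isIntegral_one) : IsIntegral K ζ₂)
  let K' := IntermediateField.adjoin K ({ζ₂} : Set Ω)
  suffices hc : ∃ c, ∃ ζ : Ω, IsPrimitiveRoot ζ (lam ^ c) ∧ ζ ∉ K' by
    obtain ⟨c, ζc, hζc, hnot⟩ := hc
    obtain ⟨g, hg, hgc⟩ : ∃ g ∈ K'.fixingSubgroup, g ζc ≠ ζc := by
      by_contra! h
      refine hnot ?_
      rw [← InfiniteGalois.fixedField_fixingSubgroup K']
      exact fun g => h g.1 g.2
    have hg2 : g ζ₂ = ζ₂ := (IntermediateField.mem_fixingSubgroup_iff _ _).mp hg _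
      (IntermediateField.mem_adjoin_simple_self K ζ₂)
    refine ⟨g, c, fun N hcN h2N => ?_⟩
    obtain ⟨ζ, hζ⟩ := hprim N
    haveI : NeZero (lam ^ N) := ⟨hpos N⟩
    obtain ⟨m, hm, hgm⟩ := hζ.eq_pow_of_pow_eq_one (ξ := g ζ) (by rw [← map_pow, hζ.pow_eq_one, map_one])
    have hN1 : 1 < lam ^ N := Nat.one_lt_pow (by omega) hlam.one_lt
    have hm1 : 1 ≤ m := by
      rcases Nat.eq_zero_or_pos m with rfl | h
      · rw [pow_zero] at hgm
        exact absurd (g.injective (hgm.symm.trans (map_one g).symm)) (hζ.ne_one hN1)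
      · exact h
    haveI : NeZero (lam ^ 2) := ⟨hpos 2⟩
    have hd2 : lam ^ 2 ∣ m - 1 := by
      have hω : IsPrimitiveRoot (ζ ^ lam ^ (N - 2)) (lam ^ 2) :=
        hζ.pow (Nat.pos_of_ne_zero (hpos N)) (by rw [← pow_add, Nat.sub_add_cancel h2N])
      obtain ⟨i, -, hi⟩ := hζ₂.eq_pow_of_pow_eq_one hω.pow_eq_one
      have hfix : g (ζ ^ lam ^ (N - 2)) = ζ ^ lam ^ (N - 2) := by rw [← hi, map_pow, hg2]
      refine hω.dvd_of_pow_eq_one _ ?_
      have h0 : ζ ^ lam ^ (N - 2) ≠ 0 := hω.ne_zero (hpos 2)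
      apply mul_left_cancel₀ h0
      rw [← pow_succ', Nat.sub_add_cancel hm1, mul_one]
      conv_rhs => rw [← hfix, map_pow, ← hgm]
      rw [← pow_mul, ← pow_mul, mul_comm]
    refine ⟨ζ, m, hζ, hm1, hd2, fun hdc => hgc ?_, hgm.symm⟩
    have hζN : ζc ^ lam ^ N = 1 := (hζc.pow_eq_one_iff_dvd _).mpr (pow_dvd_pow lam hcN)
    obtain ⟨i, -, hi⟩ := hζ.eq_pow_of_pow_eq_one hζN
    obtain ⟨v, hv⟩ := hdc
    have : ζc ^ m = ζc := by
      rw [← Nat.sub_add_cancel hm1, pow_succ, hv, pow_mul, hζc.pow_eq_one, one_pow, one_mul]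
    conv_rhs => rw [← this]
    rw [← hi, map_pow, ← hgm, ← pow_mul, ← pow_mul, mul_comm]
  by_contra! hall
  letI : Algebra R Ω := ((algebraMap K Ω).comp (algebraMap R K)).toAlgebra
  haveI : IsScalarTower R K Ω := IsScalarTower.of_algebraMap_eq fun _ => rfl
  let ρ : R →+* W := (algebraMap R Ω).codRestrict W.toSubring hW.1
  haveI : IsLocalHom ρ := ⟨fun r hr => by
    by_contra h
    exact ((W.valuation_lt_one_iff _).mpr (hW.2 r ((IsLocalRing.mem_maximalIdeal r).mpr h))) hr⟩
  let κ := IsLocalRing.ResidueField W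
  letI : Algebra (IsLocalRing.ResidueField R) κ := (IsLocalRing.ResidueField.map ρ).toAlgebra
  let k := IsLocalRing.ResidueField R
  -- reductions of primitive roots
  have hred : ∀ c, ∃ z : κ, IsPrimitiveRoot z (lam ^ c) ∧ IsIntegral k z ∧
      (minpoly k z).natDegree ≤ Module.finrank K K' := by
    intro c
    obtain ⟨ζ, hζ⟩ := hprim c
    have hK' := hall c ζ hζ
    have hv : W.valuation ζ = 1 := val_zpow_root (hpos c) (by rw [← map_pow, hζ.pow_eq_one, map_one])
    let w : W := ⟨ζ, W.mem_of_valuation_le_one _ hv.le⟩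
    let z : κ := IsLocalRing.residue W w
    have hz : IsPrimitiveRoot z (lam ^ c) := by
      have hpow : w ^ lam ^ c = 1 := Subtype.ext (by push_cast; exact hζ.pow_eq_one)
      refine ⟨by simp only [z]; rw [← map_pow, hpow, map_one], fun l hl' => hζ.dvd_of_pow_eq_one l ?_⟩
      refine root_eq_one (W := W) (hlb c) (by rw [← pow_mul, mul_comm, pow_mul, hζ.pow_eq_one, one_pow]) ?_
      have h0 : IsLocalRing.residue W (w ^ l - 1) = 0 := by rw [map_sub, map_pow, map_one]; exact sub_eq_zero.mpr hl'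
      exact (W.valuation_lt_one_iff _).mp ((IsLocalRing.residue_eq_zero_iff _).mp h0)
    have hint : IsIntegral R ζ := IsIntegral.of_pow (Nat.pos_of_ne_zero (hpos c)) (by rw [hζ.pow_eq_one]; exact isIntegral_one)
    let Q := (minpoly R ζ).map (IsLocalRing.residue R)
    have hQm : Q.Monic := (minpoly.monic hint).map _
    have hQz : aeval z Q = 0 := by
      have e1 : eval₂ ρ w (minpoly R ζ) = 0 := Subtype.ext (by
        show W.subtype (eval₂ ρ w (minpoly R ζ)) = 0
        rw [hom_eval₂]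
        exact minpoly.aeval R ζ)
      have e2 := congrArg (IsLocalRing.residue W) e1
      rw [hom_eval₂, map_zero] at e2
      rw [aeval_def, eval₂_map]
      convert e2 using 2
      all_goals first | rfl | skip
    refine ⟨z, hz, ⟨Q, hQm, hQz⟩, ?_⟩
    refine (natDegree_le_of_dvd (minpoly.dvd k z hQz) hQm.ne_zero).trans ?_
    rw [(minpoly.monic hint).natDegree_map, ← (minpoly.monic hint).natDegree_map (algebraMap R K),
      ← minpoly.isIntegrallyClosed_eq_field_fractions K Ω hint, Algebra.algebraMap_self_apply,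
      show minpoly K ζ = minpoly K (⟨ζ, hK'⟩ : K') from minpoly.algebraMap_eq (algebraMap K' Ω).injective (⟨ζ, hK'⟩ : K')]
    exact minpoly.natDegree_le _
  choose z hz hzi hzd using hred
  let E : ℕ → IntermediateField k κ := fun c => IntermediateField.adjoin k {z c}
  have hE : ∀ c, Module.finrank k (E c) ≤ Module.finrank K K' := fun c =>
    (IntermediateField.adjoin.finrank (hzi c)).trans_le (hzd c)
  obtain ⟨c₀, -, hmax⟩ : ∃ c₀, True ∧ ∀ c, Module.finrank k (E c) ≤ Module.finrank k (E c₀) := by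
    let d := Nat.findGreatest (fun d => ∃ c, Module.finrank k (E c) = d) (Module.finrank K K')
    obtain ⟨c₀, hc₀⟩ : ∃ c, Module.finrank k (E c) = d :=
      Nat.findGreatest_spec (P := fun d => ∃ c, Module.finrank k (E c) = d) (hE 0) ⟨0, rfl⟩
    exact ⟨c₀, trivial, fun c => hc₀ ▸ Nat.le_findGreatest (hE c) ⟨c, rfl⟩⟩
  have hmono : ∀ a b, a ≤ b → E a ≤ E b := fun a b hab => by
    haveI : NeZero (lam ^ b) := ⟨hpos b⟩
    obtain ⟨i, -, hi⟩ := (hz b).eq_pow_of_pow_eq_one (((hz a).pow_eq_one_iff_dvd _).mpr (pow_dvd_pow lam hab))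
    rw [IntermediateField.adjoin_simple_le_iff, ← hi]
    exact pow_mem (IntermediateField.mem_adjoin_simple_self k _) i
  haveI hfd : ∀ c, FiniteDimensional k (E c) := fun c => IntermediateField.adjoin.finiteDimensional (hzi c)
  obtain ⟨m, hm⟩ := hstar (E c₀) inferInstance
  have heq : E c₀ = E (max c₀ m) :=
    IntermediateField.eq_of_le_of_finrank_le (hmono _ _ (le_max_left _ _)) (hmax _)
  have hzm : z m ∈ E c₀ := heq ▸ hmono m _ (le_max_right _ _) (IntermediateField.mem_adjoin_simple_self k _)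
  exact hm ⟨z m, hzm⟩ (IsPrimitiveRoot.of_map_of_injective (f := (E c₀).val) (hz m) Subtype.val_injective)

end Groth.Agent.QUnip
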